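import Groth.Agent.Krr.H442.AmpleFin
import Groth.Agent.Krr.H482.PullLambda
import Groth.Agent.Krr.H495.Rank
import Groth.Agent.PerfA.CohSerre
import Groth.Agent.Dcoh.Spread
import Groth.Agent.Sga67.K0Basic

/-!
# The class of an ample invertible module is an ample line element

* `cl_freeMod`: the class of `O^n` in `K₀` of bundles;
* `model_freeMod`: its class in a model is `n`;
* `model_pow`: the class of `L^{⊗ n}` in a model is the `n`-th power of the class of `L`;
* `isLine_cl`: classes of invertible modules are line elements;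
* `isAmpleElt_of_isAmple`.
-/

set_option autoImplicit false
universe v u

open CategoryTheory CategoryTheory.Limits AlgebraicGeometry KRR
open Groth.Agent.Krr.H482.PullLambda Groth.Agent.Sga67.KvbRing Groth.Agent.Krr.H495
open Groth.Agent.Sga67.LocBasis

namespace Groth.Agent.Krr.H442.AmpleClass

section Free

variable (S : Scheme.{u})

theorem isFinLocFree_freeMod (N : ℕ) : FlatMod.IsFinLocFree (FlatMod.freeMod S N) :=
  isFinLocFree_of_exists fun _ => ⟨⊤, Fin N, inferInstance, _, _root_.trivial, free_isLocBasis S N⟩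

/-- The split sequence `0 → O → O^{N+1} → O^N → 0`. -/
noncomputable def freeSplit (N : ℕ) : ShortComplex S.Modules :=
  ShortComplex.mk (Sigma.ι (fun _ : Fin (N + 1) => Coh.structureModule S) (Fin.last N))
    (Sigma.desc (Fin.lastCases (motive := fun _ => Coh.structureModule S ⟶ FlatMod.freeMod S N) 0
      (fun i => Sigma.ι (fun _ : Fin N => Coh.structureModule S) i)) :
        FlatMod.freeMod S (N + 1) ⟶ FlatMod.freeMod S N)
    (by simp)

theorem freeSplit_shortExact (N : ℕ) : (freeSplit S N).ShortExact := by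
  refine ShortComplex.Splitting.shortExact
    { r := Sigma.desc (Fin.lastCases (motive := fun _ => Coh.structureModule S ⟶ Coh.structureModule S)
        (𝟙 _) (fun _ => 0))
      s := Sigma.desc (fun i => Sigma.ι (fun _ : Fin (N + 1) => Coh.structureModule S) i.castSucc)
      f_r := ?_
      s_g := ?_
      id := ?_ }
  · simp [freeSplit]
  · refine Sigma.hom_ext _ _ fun i => ?_
    simp [freeSplit]
  · refine Sigma.hom_ext _ _ fun i => ?_
    refine Fin.lastCases ?_ (fun i => ?_) i
    · refine (Preadditive.comp_add _ _ _ _ _ _).trans ?_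
      simp only [freeSplit, colimit.ι_desc_assoc, Cofan.mk_ι_app, Fin.lastCases_last,
        Category.id_comp, zero_comp, Category.comp_id, Discrete.functor_obj]
      exact add_zero _
    · refine (Preadditive.comp_add _ _ _ _ _ _).trans ?_
      simp only [freeSplit, colimit.ι_desc_assoc, Cofan.mk_ι_app, Fin.lastCases_castSucc,
        Category.id_comp, zero_comp, Category.comp_id, Discrete.functor_obj]
      refine (zero_add _).trans ?_
      simp

theorem cl_freeMod (N : ℕ) : cl S (FlatMod.freeMod S N) = N • cl S (Coh.structureModule S) := by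
  induction N with
  | zero =>
    rw [zero_smul]
    refine Groth.Agent.Sga67.K0Basic.clSub_of_isZero ?_
    rw [IsZero.iff_id_eq_zero]
    exact Sigma.hom_ext _ _ fun i => i.elim0
  | succ N ih =>
    have h := c_ses (freeSplit_shortExact S N) Groth.Agent.Sga67.TensorOps.isFinLocFree_structureModule
      (isFinLocFree_freeMod S (N + 1)) (isFinLocFree_freeMod S N)
    change cl S (FlatMod.freeMod S (N + 1)) =
      cl S (Coh.structureModule S) + cl S (FlatMod.freeMod S N) at h
    rw [h, ih, succ_nsmul, add_comm]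

end Free

section Model

variable {X : Scheme.{u}} {K : Type v} [CommRing K] [LambdaRing.LambdaOps K]
  {P : LambdaRing.PosStructure K} {φ : SGA6.Kvb X →+ K}

theorem model_freeMod (h : IsModel X K P φ) (N : ℕ) : φ (cl X (FlatMod.freeMod X N)) = N := by
  rw [cl_freeMod, map_nsmul, h.map_one, nsmul_eq_mul, mul_one]

theorem isFinLocFreeOfRank_one {L : X.Modules} (hL : PicF.IsInvertible L) :
    FlatMod.IsFinLocFreeOfRank 1 L := by
  intro x
  obtain ⟨U, hU, ⟨e⟩⟩ := hL x
  refine ⟨U, hU, ⟨e ≪≫ ?_⟩⟩
  exact (Limits.coproductUniqueIso (fun _ : Fin 1 => Coh.structureModule (↑U : Scheme.{u}))).symm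

theorem isLine_cl (h : IsModel X K P φ) {L : X.Modules} (hL : FlatMod.IsFinLocFreeOfRank 1 L) :
    P.IsLine (φ (cl X L)) := by
  refine ⟨(h.mem_pos_iff _).2 ⟨1, L, le_rfl, hL, rfl⟩, ?_⟩
  rw [h.aug_cl 1 L hL]
  rfl

theorem isFinLocFree_tensorPow {L : X.Modules} (hL : FlatMod.IsFinLocFree L) (n : ℕ) :
    FlatMod.IsFinLocFree (CohB1.tensorPow L n) := by
  induction n with
  | zero => exact Groth.Agent.Sga67.TensorOps.isFinLocFree_structureModule
  | succ n ih => exact isFinLocFree_tensorMod ih hL

theorem model_mul (h : IsModel X K P φ) {E F : X.Modules} (hE : FlatMod.IsFinLocFree E)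
    (hF : FlatMod.IsFinLocFree F) :
    φ (cl X (CohB1.tensorMod E F)) = φ (cl X E) * φ (cl X F) :=
  (h.map_mul E F hE hF).symm

theorem model_pow (h : IsModel X K P φ) {L : X.Modules} (hL : FlatMod.IsFinLocFree L) (n : ℕ) :
    φ (cl X (CohB1.tensorPow L n)) = φ (cl X L) ^ n := by
  induction n with
  | zero => rw [pow_zero]; exact h.map_one
  | succ n ih =>
    rw [pow_succ, ← ih]
    exact model_mul h (isFinLocFree_tensorPow hL n) hL

theorem model_ses (φ : SGA6.Kvb X →+ K) {S : ShortComplex X.Modules} (hS : S.ShortExact)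
    (h₁ : FlatMod.IsFinLocFree S.X₁) (h₂ : FlatMod.IsFinLocFree S.X₂)
    (h₃ : FlatMod.IsFinLocFree S.X₃) : φ (cl X S.X₂) = φ (cl X S.X₁) + φ (cl X S.X₃) := by
  have := congrArg φ (c_ses hS h₁ h₂ h₃)
  rw [map_add] at this
  exact this

/-- If `M` is a bundle which is a quotient of a finite free module, its class is `m` minus the class of a bundle. -/
theorem exists_class_of_finGen (h : IsModel X K P φ) {M : X.Modules} (hM : FlatMod.IsFinLocFree M)
    (hg : AmpleFin.IsFinGen M) :
    ∃ (m : ℕ) (N : X.Modules), FlatMod.IsFinLocFree N ∧ φ (cl X M) = m - φ (cl X N) := by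
  obtain ⟨κ, hκ, π, hπ⟩ := hg
  obtain ⟨m, ⟨e⟩⟩ := Finite.exists_equiv_fin κ
  let w : FlatMod.freeMod X m ≅ (∐ fun _ : κ => Coh.structureModule X) :=
    Sigma.whiskerEquiv (f := fun _ : Fin m => Coh.structureModule X)
      (g := fun _ : κ => Coh.structureModule X) e.symm (fun _ => Iso.refl _)
  let p : FlatMod.freeMod X m ⟶ M := w.hom ≫ π
  have hp : Epi p := epi_comp _ _
  have hfree := isFinLocFree_freeMod X m
  have hker : FlatMod.IsFinLocFree (kernel p) :=
    Groth.Agent.Dcoh.Spread.isFinLocFree_kernel p hfree hM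
  refine ⟨m, kernel p, hker, ?_⟩
  have hS : (ShortComplex.mk (kernel.ι p) p (kernel.condition p)).ShortExact :=
    { exact := ShortComplex.exact_kernel p
      mono_f := inferInstanceAs (Mono (kernel.ι p))
      epi_g := hp }
  have h1 := model_ses φ hS hker hfree hM
  change φ (cl X (FlatMod.freeMod X m)) = φ (cl X (kernel p)) + φ (cl X M) at h1
  rw [model_freeMod h] at h1
  rw [h1]
  ring

theorem cl_eq_zero_of_rank_zero {N : X.Modules} (hN : FlatMod.IsFinLocFreeOfRank 0 N) :
    cl X N = 0 :=
  Groth.Agent.Sga67.K0Basic.clSub_of_isZero (Rank.isZero_of_rank_zero hN)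

/-- On a connected scheme, a positive element plus the class of any bundle is positive. -/
theorem add_mem_pos [ConnectedSpace X] (h : IsModel X K P φ) {x : K} (hx : x ∈ P.pos) {N : X.Modules}
    (hN : FlatMod.IsFinLocFree N) : x + φ (cl X N) ∈ P.pos := by
  obtain ⟨n, hn⟩ := Rank.exists_rank_of_connected hN
  rcases Nat.eq_zero_or_pos n with rfl | hn0
  · rw [cl_eq_zero_of_rank_zero hn, map_zero, add_zero]
    exact hx
  · exact P.add_mem _ _ hx ((h.mem_pos_iff _).2 ⟨n, N, hn0, hn, rfl⟩)

theorem pow_mem_pos (h : IsModel X K P φ) {u : K} (hu : P.IsLine u) (n : ℕ) : u ^ n ∈ P.pos := by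
  induction n with
  | zero =>
    rw [pow_zero, ← Nat.cast_one]
    exact P.natCast_mem 1 one_pos
  | succ n ih => rw [pow_succ]; exact P.mul_mem _ _ ih hu.1

/-- The class of an ample invertible module is an ample line element of the λ-ring `K(X)`. -/
theorem isAmpleElt_of_isAmple [ConnectedSpace X] (h : IsModel X K P φ) {L : X.Modules}
    (hL : CohB1.IsAmple L) : KRR.IsAmpleElt P (φ (cl X L)) := by
  have hL1 := isFinLocFreeOfRank_one hL.1
  have hLf : FlatMod.IsFinLocFree L := isFinLocFree_of_rank hL1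
  have hline := isLine_cl h hL1
  refine ⟨hline, fun x => ?_⟩
  obtain ⟨a, b, E, F, ha, hb, hE, hF, rfl⟩ := exists_eq_sub h x
  have hFf := isFinLocFree_of_rank hF
  obtain ⟨n₀, hn₀⟩ := AmpleFin.exists_finGen hL
    (Groth.Agent.PerfA.CohSerre.isCoh_of_isFinLocFree hFf)
  refine ⟨n₀, fun n hn => ?_⟩
  have hT : FlatMod.IsFinLocFree (CohB1.tensorMod F (CohB1.tensorPow L n)) :=
    isFinLocFree_tensorMod hFf (isFinLocFree_tensorPow hLf n)
  obtain ⟨m, N, hN, hmN⟩ := exists_class_of_finGen h hT (hn₀ n hn)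
  rw [model_mul h hFf (isFinLocFree_tensorPow hLf n), model_pow h hLf] at hmN
  have hpos : φ (cl X L) ^ n * φ (cl X E) ∈ P.pos :=
    P.mul_mem _ _ (pow_mem_pos h hline n) ((h.mem_pos_iff _).2 ⟨a, E, ha, hE, rfl⟩)
  refine ⟨φ (cl X L) ^ n * φ (cl X E) + φ (cl X N), m, add_mem_pos h hpos hN, ?_⟩
  linear_combination -hmN

end Model

end Groth.Agent.Krr.H442.AmpleClass
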