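import Groth.Agent.Ega2.AmpleGlobGen
import Groth.Agent.Flat2H.FamOpen

/-!
# Serre's theorem with finitely many sections

`exists_epi_all`: `L` ample, `F` coherent: for all large `n` there is a finite family of global sections of
`F ⊗ L^n` defining an epimorphism `O^κ ⟶ F ⊗ L^n`.
-/

set_option autoImplicit false
universe u
open CategoryTheory CategoryTheory.Limits AlgebraicGeometry Opposite TopologicalSpace
open Groth.Agent.Fdesc.LocGen

namespace Groth.Agent.Krr.H442.AmpleFin

open Groth.Agent Groth.Agent.Ega2.TensGen Groth.Agent.Ega2.TensPow Groth.Agent.Ega2.SecCalc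
open Groth.Agent.Ega2.GlobGenCrit Groth.Agent.Ega2.AmpleGlobGen Groth.Agent.Ega2

variable {X : Scheme.{u}} {F L M N : X.Modules}

/-- `M` is a quotient of a finite free module. -/
def IsFinGen (M : X.Modules) : Prop :=
  ∃ (κ : Type u) (_ : Finite κ) (π : (∐ fun _ : κ => Coh.structureModule X) ⟶ M), Epi π

theorem IsFinGen.of_iso (e : M ≅ N) (h : IsFinGen M) : IsFinGen N := by
  obtain ⟨κ, hκ, π, hπ⟩ := h
  exact ⟨κ, hκ, π ≫ e.hom, epi_comp _ _⟩

theorem exists_finGen_of_cover [CompactSpace X] [QuasiSeparatedSpace X] (hL : PicF.IsInvertible L)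
    {ι : Type*} [Finite ι] (s : ι → (Coh.structureModule X ⟶ L))
    (haff : ∀ i, IsAffineOpen (CohB1.genLocus L (s i))) (hc : ⨆ i, CohB1.genLocus L (s i) = ⊤)
    (hF : Coh.IsCoh F) :
    ∃ m₀ : ℕ, ∀ m, m₀ ≤ m → IsFinGen (CohB1.tensorMod F (CohB1.tensorPow L m)) := by
  classical
  have hq : Coh.IsQCoh F := hF.1
  cases nonempty_fintype ι
  have h0 : ∀ i, ∃ T : Finset Γ(F, CohB1.genLocus L (s i)),
      Submodule.span Γ(X, CohB1.genLocus L (s i)) (T : Set Γ(F, CohB1.genLocus L (s i))) = ⊤ :=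
    fun i => (CohqB.FiniteType2.finite_sections_of_isFT F hF.2 (haff i)).fg_top
  choose T hT using h0
  choose n hn using fun (i : ι) (t : Γ(F, CohB1.genLocus L (s i))) =>
    exists_extend_top hF.1 hL (s i) t
  let m₀ := Finset.univ.sup fun i => (T i).sup (n i)
  have hm₀ : ∀ i, ∀ t ∈ T i, n i t ≤ m₀ := fun i t ht =>
    (Finset.le_sup (f := n i) ht).trans
      (Finset.le_sup (f := fun i => (T i).sup (n i)) (Finset.mem_univ i))
  refine ⟨m₀, fun m hm => ?_⟩
  have h1 : ∀ i (t : Γ(F, CohB1.genLocus L (s i))), ∃ t' : Γ(CohB1.tensorMod F (CohB1.tensorPow L m), ⊤),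
      t ∈ T i → res _ (le_top : CohB1.genLocus L (s i) ≤ ⊤) t' =
        tmul t (pow (sec (s i) (CohB1.genLocus L (s i))) m) := by
    intro i t
    by_cases ht : t ∈ T i
    · obtain ⟨t', ht'⟩ := hn i t m ((hm₀ i t ht).trans hm)
      exact ⟨t', fun _ => ht'⟩
    · exact ⟨0, fun h => absurd h ht⟩
  choose t' ht' using h1
  let S : Finset Γ(CohB1.tensorMod F (CohB1.tensorPow L m), ⊤) :=
    Finset.univ.biUnion fun i => (T i).image (t' i)
  have hS : ∀ i, Submodule.span Γ(X, CohB1.genLocus L (s i))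
        (res (CohB1.tensorMod F (CohB1.tensorPow L m))
          (le_top : CohB1.genLocus L (s i) ≤ ⊤) '' (S : Set _)) = ⊤ := by
    intro i
    rw [eq_top_iff]
    intro v _
    obtain ⟨t, rfl⟩ := exists_eq_tmul ((isGen_sec_genLocus (s i)).pow m) v
    have ht : t ∈ Submodule.span Γ(X, CohB1.genLocus L (s i))
        (T i : Set Γ(F, CohB1.genLocus L (s i))) := by
      rw [hT]; trivial
    induction ht using Submodule.span_induction with
    | mem t ht =>
      rw [← ht' i t ht]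
      refine Submodule.subset_span ⟨t' i t, ?_, rfl⟩
      simp only [S, Finset.coe_biUnion, Set.mem_iUnion]
      exact ⟨i, Finset.mem_coe.2 (Finset.mem_univ i), Finset.mem_coe.2 (Finset.mem_image_of_mem _ ht)⟩
    | zero => rw [zero_tmul]; exact zero_mem _
    | add a b _ _ ha hb => rw [add_tmul]; exact add_mem (ha trivial) (hb trivial)
    | smul r a _ ha => rw [smul_tmul]; exact Submodule.smul_mem _ _ (ha trivial)
  have hepi : Epi (GlobGenCrit.desc (fun k : S => homOf k.1)) := by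
    refine GlobGenCrit.epi_desc_of_span (isQCoh_tensor hF.1 (isInvertible_tensorPow hL m))
      (fun i => CohB1.genLocus _ (s i)) haff hc _ fun i => ?_
    convert hS i using 3
    ext v
    constructor
    · rintro ⟨k, rfl⟩
      exact ⟨k.1, k.2, (Fdesc.LocGen.sec_homOf k.1 _).symm⟩
    · rintro ⟨k, hk, rfl⟩
      exact ⟨⟨k, hk⟩, Fdesc.LocGen.sec_homOf k _⟩
  exact ⟨S, inferInstance, _, hepi⟩

/-- Serre's theorem: `F ⊗ L^n` is a quotient of a finite free module for all large `n`. -/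
theorem exists_finGen (hL : CohB1.IsAmple L) (hF : Coh.IsCoh F) :
    ∃ n₀ : ℕ, ∀ n, n₀ ≤ n → IsFinGen (CohB1.tensorMod F (CohB1.tensorPow L n)) := by
  have hcomp : CompactSpace X := hL.2.1
  have hqs : QuasiSeparatedSpace X := Flat2H.FamOpen.quasiSeparatedSpace_of_isAmple hL
  have hinv := hL.1
  obtain ⟨d, ι, _, s, haff, hc⟩ := exists_common_cover hL
  have key : ∀ j : Fin (d + 1), ∃ m₀ : ℕ, ∀ m, m₀ ≤ m →
      IsFinGen (CohB1.tensorMod (CohB1.tensorMod F (CohB1.tensorPow L j))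
        (CohB1.tensorPow (CohB1.tensorPow L (d + 1)) m)) := fun j =>
    exists_finGen_of_cover (isInvertible_tensorPow hinv (d + 1)) s haff hc
      (isCoh_tensor hF (isInvertible_tensorPow hinv j))
  choose m₀ hm₀ using key
  refine ⟨(d + 1) * Finset.univ.sup m₀, fun n hn => ?_⟩
  have hlt : n % (d + 1) < d + 1 := Nat.mod_lt _ (Nat.succ_pos d)
  have hdiv : Finset.univ.sup m₀ ≤ n / (d + 1) := by
    rw [Nat.le_div_iff_mul_le (Nat.succ_pos d), mul_comm]
    exact hn
  have h1 := hm₀ ⟨n % (d + 1), hlt⟩ (n / (d + 1))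
    ((Finset.le_sup (Finset.mem_univ _)).trans hdiv)
  refine h1.of_iso ?_
  exact Tens.mapTIso (Iso.refl _) (powMul L (d + 1) (n / (d + 1))) ≪≫
    tensPowAdd F L (n % (d + 1)) ((d + 1) * (n / (d + 1))) ≪≫
    Tens.mapTIso (Iso.refl F) (powCongr L (Nat.mod_add_div n (d + 1)))

end Groth.Agent.Krr.H442.AmpleFin
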