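import Groth.Prelude.Def_KRR
import Groth.Agent.Books.Lambda3

/-!
# Isomorphisms of λ-rings with positive structure, possibly in different universes

`PosIso P P' e`: the ring isomorphism `e : K ≃+* K'` (`K : Type v`, `K' : Type w`) commutes with `λ^i`, the
augmentations and matches positive elements.  Everything defined from this data is transported: `γ`, the
`γ`-filtration, Adams operations, `KRR.lamAlt`, `KRR.bott`, `KRR.sigma`, line and ample elements.
-/

set_option autoImplicit false
universe u v w

open PowerSeries Finset LambdaRing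

namespace Groth.Agent.Krr.H442.PosIso

variable {K : Type v} [CommRing K] [LambdaOps K] {K' : Type w} [CommRing K'] [LambdaOps K']

/-- An isomorphism of λ-rings with positive structure (universe polymorphic). -/
structure PosIso (P : PosStructure K) (P' : PosStructure K') (e : K ≃+* K') : Prop where
  lam : ∀ (i : ℕ) (x : K), e (LambdaOps.lam i x) = LambdaOps.lam i (e x)
  aug : ∀ x : K, P'.aug (e x) = P.aug x
  pos : ∀ x : K, x ∈ P.pos ↔ e x ∈ P'.pos

variable {P : PosStructure K} {P' : PosStructure K'} {e : K ≃+* K'}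

theorem PosIso.symm (h : PosIso P P' e) : PosIso P' P e.symm where
  lam i x := by
    apply e.injective
    rw [h.lam, e.apply_symm_apply, e.apply_symm_apply]
  aug x := by
    rw [← h.aug, e.apply_symm_apply]
  pos x := by
    rw [h.pos, e.apply_symm_apply]

theorem PosIso.refl (P : PosStructure K) : PosIso P P (RingEquiv.refl K) where
  lam _ _ := rfl
  aug _ := rfl
  pos _ := Iff.rfl

theorem PosIso.isLine_iff (h : PosIso P P' e) (x : K) : P.IsLine x ↔ P'.IsLine (e x) := by
  rw [PosStructure.IsLine, PosStructure.IsLine, h.pos, h.aug]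

theorem PosIso.gamma (h : PosIso P P' e) (k : ℕ) (x : K) :
    e (LambdaRing.gamma k x) = LambdaRing.gamma k (e x) := by
  unfold LambdaRing.gamma
  split_ifs with hk
  · rw [map_one]
  · rw [map_sum]
    apply Finset.sum_congr rfl
    intro j _
    rw [map_mul, map_natCast]
    split_ifs with hj
    · rw [map_zero]
    · rw [h.lam]

theorem PosIso.mem_gammaFiltration_of_mem (h : PosIso P P' e) (n : ℕ) {x : K}
    (hx : x ∈ gammaFiltration P n) : e x ∈ gammaFiltration P' n := by
  unfold gammaFiltration at hx ⊢
  split_ifs at hx ⊢ with hn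
  · trivial
  · induction hx using AddSubgroup.closure_induction with
    | mem x hx =>
      obtain ⟨l, hl, hn', rfl⟩ := hx
      refine AddSubgroup.subset_closure ⟨l.map (fun p => (p.1, e p.2)), ?_, ?_, ?_⟩
      · intro p hp
        obtain ⟨q, hq, rfl⟩ := List.mem_map.mp hp
        rw [h.aug]
        exact hl q hq
      · rw [List.map_map]
        exact hn'
      · rw [List.map_map, map_list_prod, List.map_map]
        congr 1
        apply List.map_congr_left
        intro p _
        simp [h.gamma]
    | zero => rw [map_zero]; exact AddSubgroup.zero_mem _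
    | add x y _ _ hx hy => rw [map_add]; exact AddSubgroup.add_mem _ hx hy
    | neg x _ hx => rw [map_neg]; exact AddSubgroup.neg_mem _ hx

theorem PosIso.mem_gammaFiltration_iff (h : PosIso P P' e) (n : ℕ) (x : K) :
    x ∈ gammaFiltration P n ↔ e x ∈ gammaFiltration P' n := by
  refine ⟨h.mem_gammaFiltration_of_mem n, fun hx => ?_⟩
  have := h.symm.mem_gammaFiltration_of_mem n hx
  rwa [e.symm_apply_apply] at this

theorem PosIso.gammaFiltration_eq_bot_iff (h : PosIso P P' e) (n : ℕ) :
    gammaFiltration P n = ⊥ ↔ gammaFiltration P' n = ⊥ := by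
  constructor
  · intro hb
    rw [eq_bot_iff]
    intro x hx
    have := h.symm.mem_gammaFiltration_of_mem n hx
    rw [hb, AddSubgroup.mem_bot, EmbeddingLike.map_eq_zero_iff] at this
    rw [AddSubgroup.mem_bot, this]
  · intro hb
    rw [eq_bot_iff]
    intro x hx
    have := h.mem_gammaFiltration_of_mem n hx
    rw [hb, AddSubgroup.mem_bot, EmbeddingLike.map_eq_zero_iff] at this
    rw [AddSubgroup.mem_bot, this]

theorem PosIso.map_lamSeries (h : PosIso P P' e) (x : K) :
    PowerSeries.map (e : K →+* K') (lamSeries x) = lamSeries (e x) := by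
  ext n
  rw [coeff_map, Books.Lambda1.coeff_lamSeries, Books.Lambda1.coeff_lamSeries]
  exact h.lam n x

theorem PosIso.map_rescale (h : PosIso P P' e) (x : K) :
    PowerSeries.map (e : K →+* K') (PowerSeries.rescale (-1 : K) (lamSeries x)) =
      PowerSeries.rescale (-1 : K') (lamSeries (e x)) := by
  ext n
  rw [coeff_map, coeff_rescale, coeff_rescale, Books.Lambda1.coeff_lamSeries,
    Books.Lambda1.coeff_lamSeries, map_mul, map_pow, map_neg, map_one]
  congr 1
  exact h.lam n x

theorem map_invOfUnit (f : K →+* K') (a : PowerSeries K) (h0 : constantCoeff a = 1) :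
    PowerSeries.map f (a.invOfUnit 1) = (PowerSeries.map f a).invOfUnit 1 := by
  have h1 : a * a.invOfUnit 1 = 1 := PowerSeries.mul_invOfUnit _ _ (by rw [h0]; rfl)
  have h2 : PowerSeries.map f a * (PowerSeries.map f a).invOfUnit 1 = 1 :=
    PowerSeries.mul_invOfUnit _ _ (by
      rw [← coeff_zero_eq_constantCoeff_apply, coeff_map, coeff_zero_eq_constantCoeff_apply, h0, map_one]
      rfl)
  have h3 : PowerSeries.map f a * PowerSeries.map f (a.invOfUnit 1) = 1 := by
    rw [← map_mul, h1, map_one]
  calc PowerSeries.map f (a.invOfUnit 1) =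
        (PowerSeries.map f a * (PowerSeries.map f a).invOfUnit 1) * PowerSeries.map f (a.invOfUnit 1) := by
          rw [h2, one_mul]
    _ = (PowerSeries.map f a * PowerSeries.map f (a.invOfUnit 1)) * (PowerSeries.map f a).invOfUnit 1 := by
          ring
    _ = _ := by rw [h3, one_mul]

theorem constantCoeff_rescale_lam (x : K) :
    constantCoeff (PowerSeries.rescale (-1 : K) (lamSeries x)) = 1 :=
  Books.Lambda1.constantCoeff_R x

theorem PosIso.map_adamsSeries (h : PosIso P P' e) (x : K) :
    PowerSeries.map (e : K →+* K') (adamsSeries P x) = adamsSeries P' (e x) := by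
  unfold adamsSeries
  have hd : PowerSeries.map (e : K →+* K')
      (PowerSeries.derivative K (PowerSeries.rescale (-1 : K) (lamSeries x))) =
      PowerSeries.derivative K' (PowerSeries.rescale (-1 : K') (lamSeries (e x))) := by
    rw [← h.map_rescale]
    ext n
    rw [coeff_map, coeff_derivative, coeff_derivative, coeff_map]
    simp
  rw [map_sub, map_mul, map_mul, map_X, map_C, hd,
    map_invOfUnit _ _ (constantCoeff_rescale_lam x), h.map_rescale, h.aug]
  simp

theorem PosIso.adams (h : PosIso P P' e) (j : ℕ) (x : K) :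
    e (LambdaRing.adams P j x) = LambdaRing.adams P' j (e x) := by
  unfold LambdaRing.adams
  rw [← h.map_adamsSeries, coeff_map]
  rfl

theorem PosIso.lamAlt (h : PosIso P P' e) (x : K) : e (KRR.lamAlt P x) = KRR.lamAlt P' (e x) := by
  unfold KRR.lamAlt
  rw [map_sum, h.aug]
  apply Finset.sum_congr rfl
  intro i _
  rw [map_mul, map_pow, map_neg, map_one, h.lam]

theorem PosIso.bott (h : PosIso P P' e) (j : ℕ) (x : K) : e (KRR.bott P j x) = KRR.bott P' j (e x) := by
  unfold KRR.bott
  rw [h.aug]
  have h1 := MvPolynomial.comp_aeval (R := ℤ)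
    (fun i : Fin (P.aug x).toNat => LambdaOps.lam (i.1 + 1) x) ((e : K →+* K').toIntAlgHom)
  have h2 := congrArg (fun f => f (KRR.bottPoly j (P.aug x).toNat)) h1
  refine h2.trans ?_
  congr 2
  funext i
  exact h.lam _ _

theorem PosIso.map_sigmaSeries (h : PosIso P P' e) (x : K) :
    PowerSeries.map (e : K →+* K') (KRR.sigmaSeries x) = KRR.sigmaSeries (e x) := by
  unfold KRR.sigmaSeries
  rw [map_invOfUnit _ _ (constantCoeff_rescale_lam x), h.map_rescale]

theorem PosIso.sigma (h : PosIso P P' e) (i : ℕ) (x : K) : e (KRR.sigma i x) = KRR.sigma i (e x) := by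
  unfold KRR.sigma
  rw [← h.map_sigmaSeries, coeff_map]
  rfl

theorem PosIso.isAmpleElt (h : PosIso P P' e) {x : K} (hx : KRR.IsAmpleElt P x) :
    KRR.IsAmpleElt P' (e x) := by
  refine ⟨(h.isLine_iff x).1 hx.1, fun y => ?_⟩
  obtain ⟨n₀, hn₀⟩ := hx.2 (e.symm y)
  refine ⟨n₀, fun n hn => ?_⟩
  obtain ⟨f, m, hf, hfm⟩ := hn₀ n hn
  refine ⟨e f, m, (h.pos f).1 hf, ?_⟩
  have := congrArg e hfm
  rwa [map_mul, map_pow, e.apply_symm_apply, map_sub, map_natCast] at this

theorem PosIso.isAmpleElt_iff (h : PosIso P P' e) (x : K) :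
    KRR.IsAmpleElt P x ↔ KRR.IsAmpleElt P' (e x) := by
  refine ⟨h.isAmpleElt, fun hx => ?_⟩
  have := h.symm.isAmpleElt hx
  rwa [e.symm_apply_apply] at this

/-- consequences of the splitting property of the other ring -/
theorem PosIso.adams_mul (h : PosIso P P' e) (hK' : HasSplitting K' P') (j : ℕ) (x y : K) :
    LambdaRing.adams P j (x * y) = LambdaRing.adams P j x * LambdaRing.adams P j y := by
  apply e.injective
  rw [map_mul, h.adams, h.adams, h.adams, map_mul, Books.Lambda1.adams_mul P' hK']

theorem PosIso.adams_adams (h : PosIso P P' e) (hK' : HasSplitting K' P') (i j : ℕ) (x : K) :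
    LambdaRing.adams P i (LambdaRing.adams P j x) = LambdaRing.adams P (i * j) x := by
  apply e.injective
  rw [h.adams, h.adams, h.adams, Books.Lambda1.adams_adams P' hK']

theorem PosIso.adams_sub_mem (h : PosIso P P' e) (hK' : HasSplitting K' P') (j n : ℕ) (x : K)
    (hx : x ∈ gammaFiltration P n) :
    LambdaRing.adams P j x ∈ gammaFiltration P n ∧
      LambdaRing.adams P j x - (j : K) ^ n * x ∈ gammaFiltration P (n + 1) := by
  have h1 := Books.Lambda3.Good_of_mem P' hK' j n (e x) (h.mem_gammaFiltration_of_mem n hx)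
  refine ⟨?_, ?_⟩
  · rw [h.mem_gammaFiltration_iff, h.adams]
    exact Books.Lambda3.Good.adams_mem P' h1
  · rw [h.mem_gammaFiltration_iff, map_sub, map_mul, map_pow, map_natCast, h.adams]
    exact h1.2

end Groth.Agent.Krr.H442.PosIso
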