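import Groth.Agent.Krr.H500.GrK
import Groth.Agent.Krr.H442.PosIso

/-!
# Functoriality of `KGr.GrZ`, `KGr.Gr` for filtered ring homomorphisms

For a ring homomorphism `g : K →+* K'` (any universes) with `g (F^n K) ⊆ F^n K'` for all `n` (`FilHom`):
* `grZMap`, `grMap : Gr P →ₐ[ℚ] Gr P'` with `grMap_grK : grMap (grK P n x) = grK P' n (g x)` for `x ∈ ℚF^n`;
* for `PosIso P P' e` the isomorphism `grEquiv : Gr P ≃ₐ[ℚ] Gr P'`, transporting `grK`, `chern`, `chK`, `tdK`,
  `IsGrPush`, `IsGrPull` (no restriction on `x`).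
-/

set_option autoImplicit false
universe v w v' w'

open scoped TensorProduct
open LaurentPolynomial LambdaRing KGr

namespace Groth.Agent.Krr.H442.GrMap

open Groth.Agent.Krr.H500.GrK Groth.Agent.Krr.H442.PosIso

variable {K : Type v} [CommRing K] [LambdaOps K] {K' : Type w} [CommRing K'] [LambdaOps K']
  (P : PosStructure K) (P' : PosStructure K')

/-- A ring homomorphism respecting the γ-filtrations. -/
def FilHom (g : K →+* K') : Prop :=
  ∀ (n : ℕ) (x : K), x ∈ gammaFiltration P n → g x ∈ gammaFiltration P' n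

variable {P P'}

/-- The map on Laurent polynomials. -/
noncomputable def lmap (g : K →+* K') : LaurentPolynomial K →+* LaurentPolynomial K' :=
  AddMonoidAlgebra.mapRingHom ℤ g

omit [LambdaOps K] [LambdaOps K'] in
lemma coeff_lmap (g : K →+* K') (p : LaurentPolynomial K) (n : ℤ) :
    (lmap g p).coeff n = g (p.coeff n) := AddMonoidAlgebra.coeff_mapRingHom _ _ _

omit [LambdaOps K] [LambdaOps K'] in
lemma lmap_C_mul_T (g : K →+* K') (x : K) (n : ℤ) :
    lmap g (C x * T n) = C (g x) * T n := by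
  ext m
  rw [coeff_lmap, coeff_C_mul_T, coeff_C_mul_T]
  split_ifs
  · rfl
  · exact map_zero g

omit [LambdaOps K] [LambdaOps K'] in
lemma lmap_T (g : K →+* K') (n : ℤ) : lmap g (T n) = T n := by
  have := lmap_C_mul_T g 1 n
  simpa using this

lemma lmap_mem (g : K →+* K') (hg : FilHom P P' g) (p : LaurentPolynomial K) (hp : p ∈ rees P) :
    lmap g p ∈ rees P' := by
  rw [mem_rees_iff_coeff] at hp ⊢
  intro n
  rw [coeff_lmap]
  exact hg _ _ (hp n)

/-- The map of Rees rings. -/
noncomputable def reesMap (g : K →+* K') (hg : FilHom P P' g) : rees P →+* rees P' :=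
  (lmap g).restrict (rees P) (rees P') (lmap_mem g hg)

lemma reesMap_coe (g : K →+* K') (hg : FilHom P P' g) (p : rees P) :
    ((reesMap g hg p : rees P') : LaurentPolynomial K') = lmap g p := rfl

lemma reesMap_tGen (g : K →+* K') (hg : FilHom P P' g) : reesMap g hg (tGen P) = tGen P' := by
  apply Subtype.ext
  rw [reesMap_coe]
  exact lmap_T g 1

/-- The map of graded rings. -/
noncomputable def grZMap (g : K →+* K') (hg : FilHom P P' g) : GrZ P →+* GrZ P' :=
  Ideal.quotientMap (Ideal.span {tGen P'}) (reesMap g hg) (by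
    rw [Ideal.span_le, Set.singleton_subset_iff]
    change reesMap g hg (tGen P) ∈ Ideal.span {tGen P'}
    rw [reesMap_tGen]
    exact Ideal.subset_span rfl)

lemma grZMap_mk (g : K →+* K') (hg : FilHom P P' g) (p : rees P) :
    grZMap g hg (Ideal.Quotient.mk (Ideal.span {tGen P}) p) =
      Ideal.Quotient.mk (Ideal.span {tGen P'}) (reesMap g hg p) := rfl

/-- The map of rational graded rings. -/
noncomputable def grMap (g : K →+* K') (hg : FilHom P P' g) : Gr P →ₐ[ℚ] Gr P' :=
  Algebra.TensorProduct.map (AlgHom.id ℚ ℚ) ((grZMap g hg).toIntAlgHom)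

lemma grMap_tmul (g : K →+* K') (hg : FilHom P P' g) (q : ℚ) (z : GrZ P) :
    grMap g hg (q ⊗ₜ[ℤ] z) = q ⊗ₜ[ℤ] grZMap g hg z := rfl

lemma grMap_grK_of_mem (g : K →+* K') (hg : FilHom P P' g) {n : ℤ} {x : K} (hx : x ∈ QF P n.toNat) :
    grMap g hg (grK P n x) = grK P' n (g x) := by
  obtain ⟨N, hN, hNx⟩ := hx
  have hNx' : (N : K') * g x ∈ gammaFiltration P' n.toNat := by
    have := hg _ _ hNx
    rwa [map_mul, map_natCast] at this
  rw [grK_eq P hN hNx, grK_eq P' hN hNx', grMap_tmul, cls_apply, cls_apply, grZMap_mk]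
  congr 2
  apply Subtype.ext
  rw [reesMap_coe]
  simp only
  rw [lmap_C_mul_T, map_mul, map_natCast]

lemma grMap_grK_nat (g : K →+* K') (hg : FilHom P P' g) {n : ℕ} {x : K} (hx : x ∈ QF P n) :
    grMap g hg (grK P (n : ℤ) x) = grK P' (n : ℤ) (g x) :=
  grMap_grK_of_mem g hg (by simpa using hx)

lemma PosIso_filHom {e : K ≃+* K'} (h : PosIso P P' e) : FilHom P P' (e : K →+* K') :=
  fun n _ hx => h.mem_gammaFiltration_of_mem n hx

lemma filHom_comp {K'' : Type v'} [CommRing K''] [LambdaOps K''] {P'' : PosStructure K''}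
    {g : K →+* K'} {g' : K' →+* K''} (hg : FilHom P P' g) (hg' : FilHom P' P'' g') :
    FilHom P P'' (g'.comp g) := fun n x hx => hg' n _ (hg n x hx)

omit [LambdaOps K] [LambdaOps K'] in
lemma lmap_lmap {K'' : Type v'} [CommRing K''] (g : K →+* K') (g' : K' →+* K'')
    (p : LaurentPolynomial K) : lmap g' (lmap g p) = lmap (g'.comp g) p := by
  ext m
  rw [coeff_lmap, coeff_lmap, coeff_lmap]
  rfl

lemma grMap_grMap {K'' : Type v'} [CommRing K''] [LambdaOps K''] {P'' : PosStructure K''}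
    {g : K →+* K'} {g' : K' →+* K''} (hg : FilHom P P' g) (hg' : FilHom P' P'' g') (z : Gr P) :
    grMap g' hg' (grMap g hg z) = grMap (g'.comp g) (filHom_comp hg hg') z := by
  induction z using TensorProduct.induction_on with
  | zero => simp
  | add a b ha hb => simp only [map_add, ha, hb]
  | tmul q z =>
    rw [grMap_tmul, grMap_tmul, grMap_tmul]
    congr 1
    obtain ⟨p, rfl⟩ := Ideal.Quotient.mk_surjective z
    rw [grZMap_mk, grZMap_mk, grZMap_mk]
    congr 1
    apply Subtype.ext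
    rw [reesMap_coe, reesMap_coe, reesMap_coe, lmap_lmap]

lemma grMap_id {g : K →+* K} (hg : FilHom P P g) (hid : ∀ x, g x = x) (z : Gr P) :
    grMap g hg z = z := by
  induction z using TensorProduct.induction_on with
  | zero => simp
  | add a b ha hb => simp only [map_add, ha, hb]
  | tmul q z =>
    rw [grMap_tmul]
    congr 1
    obtain ⟨p, rfl⟩ := Ideal.Quotient.mk_surjective z
    rw [grZMap_mk]
    congr 1
    apply Subtype.ext
    rw [reesMap_coe]
    ext m
    rw [coeff_lmap, hid]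

variable {e : K ≃+* K'}

/-- `PosIso` induces an isomorphism of rational graded rings. -/
noncomputable def grEquiv (h : PosIso P P' e) : Gr P ≃ₐ[ℚ] Gr P' :=
  AlgEquiv.ofAlgHom (grMap (e : K →+* K') (PosIso_filHom h))
    (grMap (e.symm : K' →+* K) (PosIso_filHom h.symm))
    (by
      refine AlgHom.ext fun z => ?_
      rw [AlgHom.comp_apply, grMap_grMap]
      exact grMap_id _ (fun x => e.apply_symm_apply x) z)
    (by
      refine AlgHom.ext fun z => ?_
      rw [AlgHom.comp_apply, grMap_grMap]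
      exact grMap_id _ (fun x => e.symm_apply_apply x) z)

lemma mem_QF_iff (h : PosIso P P' e) (n : ℕ) (x : K) : x ∈ QF P n ↔ e x ∈ QF P' n := by
  rw [mem_QF, mem_QF]
  refine exists_congr fun N => and_congr_right fun _ => ?_
  rw [h.mem_gammaFiltration_iff, map_mul, map_natCast]

theorem grEquiv_grK (h : PosIso P P' e) (n : ℤ) (x : K) :
    grEquiv h (grK P n x) = grK P' n (e x) := by
  by_cases hx : x ∈ QF P n.toNat
  · exact grMap_grK_of_mem _ (PosIso_filHom h) hx
  · rw [grK_eq_zero_of_notMem P hx, grK_eq_zero_of_notMem P' (by rwa [← mem_QF_iff h]), map_zero]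

theorem grEquiv_symm_grK (h : PosIso P P' e) (n : ℤ) (x : K') :
    (grEquiv h).symm (grK P' n x) = grK P n (e.symm x) := by
  rw [AlgEquiv.symm_apply_eq, grEquiv_grK, e.apply_symm_apply]

theorem grEquiv_chern (h : PosIso P P' e) (i : ℕ) (x : K) :
    grEquiv h (chern P i x) = chern P' i (e x) := by
  rw [chern, chern, grEquiv_grK, h.gamma, map_sub, map_intCast, h.aug]

lemma map_aeval' {A : Type*} {B : Type*} [CommRing A] [CommRing B] [Algebra ℚ A] [Algebra ℚ B]
    (f : A → B) (hadd : ∀ a b, f (a + b) = f a + f b) (hmul : ∀ a b, f (a * b) = f a * f b)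
    (halg : ∀ r : ℚ, f (algebraMap ℚ A r) = algebraMap ℚ B r) {σ : Type*} (g : σ → A)
    (p : MvPolynomial σ ℚ) :
    f (MvPolynomial.aeval g p) = MvPolynomial.aeval (fun i => f (g i)) p := by
  induction p using MvPolynomial.induction_on with
  | C r =>
    rw [MvPolynomial.aeval_C, MvPolynomial.aeval_C]
    exact halg r
  | add p q hp hq => rw [map_add, map_add, hadd, hp, hq]
  | mul_X p i hp => rw [map_mul, map_mul, hmul, hp, MvPolynomial.aeval_X, MvPolynomial.aeval_X]

lemma grEquiv_add (h : PosIso P P' e) (a b : Gr P) :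
    grEquiv h (a + b) = grEquiv h a + grEquiv h b := (grEquiv h).map_add' a b

lemma grEquiv_mul (h : PosIso P P' e) (a b : Gr P) :
    grEquiv h (a * b) = grEquiv h a * grEquiv h b := (grEquiv h).map_mul' a b

lemma grEquiv_algebraMap (h : PosIso P P' e) (r : ℚ) :
    grEquiv h (algebraMap ℚ (Gr P) r) = algebraMap ℚ (Gr P') r := (grEquiv h).commutes' r

/-- `grEquiv` commutes with evaluation of rational polynomials. -/
theorem grEquiv_aeval (h : PosIso P P' e) {σ : Type*} (g : σ → Gr P) (p : MvPolynomial σ ℚ) :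
    grEquiv h (MvPolynomial.aeval g p) = MvPolynomial.aeval (fun i => grEquiv h (g i)) p := by
  refine map_aeval' (grEquiv h) ?_ ?_ ?_ g p
  · exact grEquiv_add h
  · exact grEquiv_mul h
  · exact grEquiv_algebraMap h

theorem grEquiv_chK (h : PosIso P P' e) (d : ℕ) (x : K) :
    grEquiv h (chK P d x) = chK P' d (e x) := by
  rw [chK, chK, grEquiv_add, grEquiv_algebraMap, h.aug, grEquiv_aeval]
  simp only [grEquiv_chern]

theorem grEquiv_tdK (h : PosIso P P' e) (d : ℕ) (x : K) :
    grEquiv h (tdK P d x) = tdK P' d (e x) := by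
  rw [tdK, tdK, grEquiv_aeval]
  simp only [grEquiv_chern]

section Push

variable {KX : Type v} [CommRing KX] [LambdaOps KX] {KY : Type v} [CommRing KY] [LambdaOps KY]
  {KX' : Type w} [CommRing KX'] [LambdaOps KX'] {KY' : Type w} [CommRing KY'] [LambdaOps KY']
  {PX : PosStructure KX} {PY : PosStructure KY} {PX' : PosStructure KX'} {PY' : PosStructure KY'}
  {eX : KX ≃+* KX'} {eY : KY ≃+* KY'}

/-- Conjugation of a map of graded rings by isomorphisms. -/
noncomputable def conjG (hX : PosIso PX PX' eX) (hY : PosIso PY PY' eY) (fG : Gr PX →+ Gr PY) :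
    Gr PX' →+ Gr PY' :=
  ((grEquiv hY : Gr PY ≃ₐ[ℚ] Gr PY') : Gr PY →+ Gr PY').comp
    (fG.comp (((grEquiv hX).symm : Gr PX' ≃ₐ[ℚ] Gr PX) : Gr PX' →+ Gr PX))

lemma conjG_apply (hX : PosIso PX PX' eX) (hY : PosIso PY PY' eY) (fG : Gr PX →+ Gr PY)
    (z : Gr PX') : conjG hX hY fG z = grEquiv hY (fG ((grEquiv hX).symm z)) := rfl

lemma conjG_grEquiv (hX : PosIso PX PX' eX) (hY : PosIso PY PY' eY) (fG : Gr PX →+ Gr PY)
    (z : Gr PX) : conjG hX hY fG (grEquiv hX z) = grEquiv hY (fG z) := by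
  rw [conjG_apply, AlgEquiv.symm_apply_apply]

/-- `IsGrPush` is transported along `PosIso`s; `f'` is any map with `f' (eX x) = eY (f x)`. -/
theorem isGrPush_conj (hX : PosIso PX PX' eX) (hY : PosIso PY PY' eY) {f : KX →+ KY} {d : ℤ}
    {fG : Gr PX →+ Gr PY} (hf : IsGrPush PX PY f d fG) (f' : KX' →+ KY')
    (hf' : ∀ x, f' (eX x) = eY (f x)) : IsGrPush PX' PY' f' d (conjG hX hY fG) := by
  intro n x hx
  obtain ⟨y, rfl⟩ := eX.surjective x
  rw [← hX.mem_gammaFiltration_iff] at hx
  rw [← grEquiv_grK hX, conjG_grEquiv, hf n y hx, grEquiv_grK, hf']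

theorem isGrPull_conj (hX : PosIso PX PX' eX) (hY : PosIso PY PY' eY) {f : KX →+ KY}
    {fG : Gr PX →+ Gr PY} (hf : IsGrPull PX PY f fG) (f' : KX' →+ KY')
    (hf' : ∀ x, f' (eX x) = eY (f x)) : IsGrPull PX' PY' f' (conjG hX hY fG) := by
  intro n x hx
  obtain ⟨y, rfl⟩ := eX.surjective x
  rw [← hX.mem_gammaFiltration_iff] at hx
  rw [← grEquiv_grK hX, conjG_grEquiv, hf n y hx, grEquiv_grK, hf']

end Push

end Groth.Agent.Krr.H442.GrMap
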