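import Groth.Agent.Krr.H442.PosIso
import Groth.Agent.Krr.H482.PullLambda
import Groth.Agent.Krr.H495.ExtExist

/-!
# Two models of the same K(X), in possibly different universes, are isomorphic

`exists_posIso`: for `KRR.IsModel X K P φ` (`K : Type v`) and `KRR.IsModel X K' P' φ'` (`K' : Type w`) there is a ring
isomorphism `e : K ≃+* K'` with `PosIso P P' e` (commutes with `λ^i`, `ε`, matches positive elements; hence transports
`ψ^j`, `γ^i`, the γ-filtration, `lamAlt`, `bott`, `sigma`, ample elements) and `e (φ x) = φ' x`.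
Transport of `KRR.IsPull`, `KRR.IsPushCl`, `KRR.IsPushPr` along such isomorphisms.
-/

set_option autoImplicit false
universe v w v' w' u

open CategoryTheory CategoryTheory.Limits AlgebraicGeometry KRR
open Groth.Agent.Krr.H442.PosIso Groth.Agent.Krr.H482.PullLambda Groth.Agent.Krr.H482.LamAlg

namespace Groth.Agent.Krr.H442.ModelIso

variable {X Y : Scheme.{u}}

section Iso

variable {K : Type v} [CommRing K] [LambdaRing.LambdaOps K] {P : LambdaRing.PosStructure K}
  {φ : SGA6.Kvb X →+ K}
  {K' : Type w} [CommRing K'] [LambdaRing.LambdaOps K'] {P' : LambdaRing.PosStructure K'}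
  {φ' : SGA6.Kvb X →+ K'}

/-- The additive isomorphism between two models. -/
noncomputable def addIso (h : IsModel X K P φ) (h' : IsModel X K' P' φ') : K ≃+ K' :=
  (AddEquiv.ofBijective φ h.bijective).symm.trans (AddEquiv.ofBijective φ' h'.bijective)

theorem addIso_apply (h : IsModel X K P φ) (h' : IsModel X K' P' φ') (x : SGA6.Kvb X) :
    addIso h h' (φ x) = φ' x := by
  change φ' ((AddEquiv.ofBijective φ h.bijective).symm (AddEquiv.ofBijective φ h.bijective x)) = φ' x
  rw [AddEquiv.symm_apply_apply]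

theorem isPull_addIso (h : IsModel X K P φ) (h' : IsModel X K' P' φ') :
    IsPull (𝟙 X) φ φ' (addIso h h').toAddMonoidHom :=
  isPull_id fun E _ => addIso_apply h h' (cl X E)

/-- The ring isomorphism between two models. -/
noncomputable def ringIso (h : IsModel X K P φ) (h' : IsModel X K' P' φ') : K ≃+* K' :=
  { addIso h h' with
    map_mul' := pull_mul h' h (isPull_addIso h h') }

@[simp] theorem ringIso_apply (h : IsModel X K P φ) (h' : IsModel X K' P' φ') (x : SGA6.Kvb X) :
    ringIso h h' (φ x) = φ' x :=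
  addIso_apply h h' x

theorem ringIso_symm_apply (h : IsModel X K P φ) (h' : IsModel X K' P' φ') (x : SGA6.Kvb X) :
    (ringIso h h').symm (φ' x) = φ x := by
  rw [RingEquiv.symm_apply_eq, ringIso_apply]

theorem posIso (h : IsModel X K P φ) (h' : IsModel X K' P' φ') : PosIso P P' (ringIso h h') where
  lam i x := by
    have key : CommAt ((ringIso h h' : K ≃+* K') : K →+* K') x := by
      refine model_induction h (C := fun x => CommAt ((ringIso h h' : K ≃+* K') : K →+* K') x)
        (fun m E _ hE => ?_) (fun a b ha hb => ha.sub hb) x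
      intro i
      have hE' := isFinLocFree_of_rank hE
      obtain ⟨L, hL', hL⟩ := Groth.Agent.Krr.H495.ExtExist.exists_isExtPow i E hE'
      change ringIso h h' (LambdaRing.LambdaOps.lam i (φ (cl X E))) =
        LambdaRing.LambdaOps.lam i (ringIso h h' (φ (cl X E)))
      rw [h.map_lam i E L hE' hL' hL, ringIso_apply, ringIso_apply, h'.map_lam i E L hE' hL' hL]
    exact key i
  aug x := pull_aug h' h (isPull_addIso h h') x
  pos x := by
    rw [h.mem_pos_iff, h'.mem_pos_iff]
    constructor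
    · rintro ⟨n, E, hn, hE, rfl⟩
      exact ⟨n, E, hn, hE, (ringIso_apply h h' _).symm⟩
    · rintro ⟨n, E, hn, hE, hx⟩
      refine ⟨n, E, hn, hE, ?_⟩
      rw [← ringIso_symm_apply h h', hx, RingEquiv.symm_apply_apply]

theorem exists_posIso (h : IsModel X K P φ) (h' : IsModel X K' P' φ') :
    ∃ e : K ≃+* K', PosIso P P' e ∧ ∀ x, e (φ x) = φ' x :=
  ⟨ringIso h h', posIso h h', ringIso_apply h h'⟩

end Iso

section Transport

variable {KX : Type v} [CommRing KX] {φX : SGA6.Kvb X →+ KX}
  {KY : Type w} [CommRing KY] {φY : SGA6.Kvb Y →+ KY}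
  {KX' : Type v'} [CommRing KX'] {φX' : SGA6.Kvb X →+ KX'}
  {KY' : Type w'} [CommRing KY'] {φY' : SGA6.Kvb Y →+ KY'}
  {eX : KX ≃+* KX'} {eY : KY ≃+* KY'}

/-- conjugate of an additive map by ring isomorphisms -/
def conj (eX : KX ≃+* KX') (eY : KY ≃+* KY') (g : KX →+ KY) : KX' →+ KY' :=
  (eY : KY →+ KY').comp (g.comp (eX.symm : KX' →+ KX))

@[simp] theorem conj_apply (eX : KX ≃+* KX') (eY : KY ≃+* KY') (g : KX →+ KY) (x : KX') :
    conj eX eY g x = eY (g (eX.symm x)) := rfl

theorem conj_apply_apply (eX : KX ≃+* KX') (eY : KY ≃+* KY') (g : KX →+ KY) (x : KX) :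
    conj eX eY g (eX x) = eY (g x) := by
  rw [conj_apply, RingEquiv.symm_apply_apply]

theorem isPull_conj {f : X ⟶ Y} (hX : ∀ x, eX (φX x) = φX' x) (hY : ∀ y, eY (φY y) = φY' y)
    {g : KY →+ KX} (hg : IsPull f φY φX g) : IsPull f φY' φX' (conj eY eX g) := by
  intro E hE
  rw [← hY, conj_apply_apply, hg E hE, hX]

theorem isPushCl_conj {i : X ⟶ Y} (hX : ∀ x, eX (φX x) = φX' x) (hY : ∀ y, eY (φY y) = φY' y)
    {g : KX →+ KY} (hg : IsPushCl i φX φY g) : IsPushCl i φX' φY' (conj eX eY g) := by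
  intro F hF n L π hL
  rw [← hX, conj_apply_apply, hg F hF n L π hL, map_sum]
  refine Finset.sum_congr rfl fun k _ => ?_
  rw [map_zsmul, hY]

theorem isPushPr_conj {n : ℕ} {KP : Type v} [CommRing KP] {φP : SGA6.Kvb (PY n Y) →+ KP}
    {KP' : Type v'} [CommRing KP'] {φP' : SGA6.Kvb (PY n Y) →+ KP'} {eP : KP ≃+* KP'}
    (hP : ∀ x, eP (φP x) = φP' x) (hY : ∀ y, eY (φY y) = φY' y)
    {g : KP →+ KY} (hg : IsPushPr n Y φP φY g) : IsPushPr n Y φP' φY' (conj eP eY g) := by
  intro F hF hreg
  rw [← hP, conj_apply_apply, hg F hF hreg, hY]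

end Transport

end Groth.Agent.Krr.H442.ModelIso
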